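import Groth.Prelude.Def_EssEt
import Mathlib

/-! Transitivity of essentially étale local algebras. -/

namespace EssEtTransLib

universe u

open MvPolynomial

attribute [local instance] MvPolynomial.algebraMvPolynomial in
/-- A finitely presented algebra over a localization is the localization of a finitely presented
algebra over the base. -/
theorem exists_descend {R B D : Type u} [CommRing R] [CommRing B] [CommRing D] [Algebra R B]
    (M : Submonoid R) [IsLocalization M B] [Algebra B D] [Algebra.FinitePresentation B D]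
    [Algebra R D] [IsScalarTower R B D] :
    ∃ (P : Type u) (_ : CommRing P) (_ : Algebra R P) (_ : Algebra P D),
      Algebra.FinitePresentation R P ∧ IsScalarTower R P D ∧
        IsLocalization (Algebra.algebraMapSubmonoid P M) D := by
  classical
  obtain ⟨n, π, hπ, hker⟩ := (inferInstance : Algebra.FinitePresentation B D).out
  obtain ⟨S, hS⟩ := hker
  haveI : IsLocalization (M.map (C : R →+* MvPolynomial (Fin n) R)) (MvPolynomial (Fin n) B) :=
    MvPolynomial.isLocalization M B
  have hsurj : ∀ F : MvPolynomial (Fin n) B, ∃ (G : MvPolynomial (Fin n) R) (t : M),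
      F * C (algebraMap R B t) = MvPolynomial.map (algebraMap R B) G := by
    intro F
    obtain ⟨⟨G, ⟨_, t, ht, rfl⟩⟩, h⟩ :=
      IsLocalization.surj (M.map (C : R →+* MvPolynomial (Fin n) R)) F
    refine ⟨G, ⟨t, ht⟩, ?_⟩
    have h2 : F * MvPolynomial.map (algebraMap R B) (C t) = MvPolynomial.map (algebraMap R B) G := h
    rwa [map_C] at h2
  choose G t hGt using hsurj
  let I : Ideal (MvPolynomial (Fin n) R) := Ideal.span (S.image G : Set (MvPolynomial (Fin n) R))
  let ψ : MvPolynomial (Fin n) R →ₐ[R] D :=
    (π.restrictScalars R).comp (MvPolynomial.mapAlgHom (Algebra.ofId R B))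
  have hψ : ∀ g, ψ g = π (MvPolynomial.map (algebraMap R B) g) := fun g => rfl
  have hker : ∀ a ∈ I, ψ a = 0 := by
    intro a ha
    induction ha using Submodule.span_induction with
    | mem x hx =>
      obtain ⟨F, hF, rfl⟩ := Finset.mem_image.1 hx
      have hF0 : π F = 0 := by
        have : F ∈ RingHom.ker π.toRingHom := by rw [← hS]; exact Ideal.subset_span hF
        exact this
      rw [hψ, ← hGt F, map_mul, hF0, zero_mul]
    | zero => exact map_zero _
    | add x y _ _ hx hy => rw [map_add, hx, hy, add_zero]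
    | smul c x _ hx => rw [smul_eq_mul, map_mul, hx, mul_zero]
  let φ : (MvPolynomial (Fin n) R ⧸ I) →ₐ[R] D := Ideal.Quotient.liftₐ I ψ hker
  letI : Algebra (MvPolynomial (Fin n) R ⧸ I) D := φ.toRingHom.toAlgebra
  haveI : IsScalarTower R (MvPolynomial (Fin n) R ⧸ I) D :=
    IsScalarTower.of_algebraMap_eq fun r => (φ.commutes r).symm
  have hφ : ∀ g, algebraMap (MvPolynomial (Fin n) R ⧸ I) D (Ideal.Quotient.mk I g) = ψ g :=
    fun g => rfl
  haveI : Algebra.FinitePresentation R (MvPolynomial (Fin n) R ⧸ I) :=
    Algebra.FinitePresentation.quotient ⟨S.image G, rfl⟩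
  refine ⟨MvPolynomial (Fin n) R ⧸ I, inferInstance, inferInstance, inferInstance, inferInstance,
    inferInstance, ?_, ?_, ?_⟩
  · rintro ⟨_, m, hm, rfl⟩
    show IsUnit (algebraMap (MvPolynomial (Fin n) R ⧸ I) D (algebraMap R _ m))
    rw [← IsScalarTower.algebraMap_apply, IsScalarTower.algebraMap_apply R B D]
    exact (IsLocalization.map_units B ⟨m, hm⟩).map _
  · intro d
    obtain ⟨F, rfl⟩ := hπ d
    refine ⟨⟨Ideal.Quotient.mk I (G F), ⟨algebraMap R _ (t F : R), (t F : R), (t F).2, rfl⟩⟩, ?_⟩
    show π F * algebraMap (MvPolynomial (Fin n) R ⧸ I) D (algebraMap R _ (t F : R)) = _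
    rw [← IsScalarTower.algebraMap_apply, hφ, hψ, ← hGt F, map_mul,
      IsScalarTower.algebraMap_apply R B D]
    congr 1
    exact (π.commutes _).symm
  · intro x y hxy
    obtain ⟨x, rfl⟩ := Ideal.Quotient.mk_surjective x
    obtain ⟨y, rfl⟩ := Ideal.Quotient.mk_surjective y
    have hz : MvPolynomial.map (algebraMap R B) (x - y) ∈
        I.map (algebraMap (MvPolynomial (Fin n) R) (MvPolynomial (Fin n) B)) := by
      have h0 : π (MvPolynomial.map (algebraMap R B) (x - y)) = 0 := by
        rw [← hψ, map_sub, ← hφ, ← hφ, hxy, sub_self]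
      have h1 : MvPolynomial.map (algebraMap R B) (x - y) ∈ RingHom.ker π.toRingHom := h0
      rw [← hS] at h1
      refine Ideal.span_le.2 ?_ h1
      intro F hF
      have hG : MvPolynomial.map (algebraMap R B) (G F) ∈
          I.map (algebraMap (MvPolynomial (Fin n) R) (MvPolynomial (Fin n) B)) :=
        Ideal.mem_map_of_mem _ (Ideal.subset_span (Finset.mem_image_of_mem G hF))
      rw [← hGt F] at hG
      exact (Ideal.mul_unit_mem_iff_mem _ ((IsLocalization.map_units B (t F)).map C)).1 hG
    obtain ⟨⟨⟨a, ha⟩, ⟨_, m, hm, rfl⟩⟩, h⟩ :=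
      (IsLocalization.mem_map_algebraMap_iff (M.map (C : R →+* MvPolynomial (Fin n) R))
        (MvPolynomial (Fin n) B)).1 hz
    obtain ⟨⟨_, m', hm', rfl⟩, h'⟩ :=
      (IsLocalization.eq_iff_exists (M.map (C : R →+* MvPolynomial (Fin n) R))
        (MvPolynomial (Fin n) B)).1 (show algebraMap _ (MvPolynomial (Fin n) B) ((x - y) * C m) =
          algebraMap _ _ a by rw [map_mul]; exact h)
    refine ⟨⟨algebraMap R _ (m' * m), m' * m, mul_mem hm' hm, rfl⟩, ?_⟩
    show Ideal.Quotient.mk I (C (m' * m)) * Ideal.Quotient.mk I x =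
      Ideal.Quotient.mk I (C (m' * m)) * Ideal.Quotient.mk I y
    rw [← map_mul, ← map_mul, Ideal.Quotient.eq, ← mul_sub, map_mul, mul_assoc,
      mul_comm (C m) (x - y)]
    exact (h' : _) ▸ I.mul_mem_left _ ha

theorem isEssentiallyEtale_trans {A B C : Type u} [CommRing A] [IsLocalRing A] [CommRing B]
    [IsLocalRing B] [Algebra A B] [CommRing C] [Algebra B C] [Algebra A C] [IsScalarTower A B C]
    (hB : EGA4loc.IsEssentiallyEtale A B) (hC : EGA4loc.IsEssentiallyEtale B C) :
    EGA4loc.IsEssentiallyEtale A C := by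
  obtain ⟨C0, _, _, q, _, _, hq, ⟨eB⟩⟩ := hB
  obtain ⟨D, _, _, r, _, _, hr, ⟨eC⟩⟩ := hC
  letI : Algebra C0 B := (eB.symm.toRingHom.comp (algebraMap C0 _)).toAlgebra
  haveI : IsScalarTower A C0 B := IsScalarTower.of_algebraMap_eq fun a =>
    (eB.symm.commutes a).symm.trans (congrArg eB.symm (IsScalarTower.algebraMap_apply A C0 _ a))
  haveI : IsLocalization q.primeCompl B :=
    IsLocalization.isLocalization_of_algEquiv q.primeCompl
      (AlgEquiv.ofRingEquiv (f := eB.symm.toRingEquiv) fun _ => rfl :
        Localization.AtPrime q ≃ₐ[C0] B)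
  letI : Algebra C0 D := ((algebraMap B D).comp (algebraMap C0 B)).toAlgebra
  haveI : IsScalarTower C0 B D := IsScalarTower.of_algebraMap_eq fun _ => rfl
  obtain ⟨P, _, _, _, hfp, _, hloc⟩ := exists_descend (R := C0) (B := B) (D := D) q.primeCompl
  haveI := hfp
  letI : Algebra A P := ((algebraMap C0 P).comp (algebraMap A C0)).toAlgebra
  haveI : IsScalarTower A C0 P := IsScalarTower.of_algebraMap_eq fun _ => rfl
  letI : Algebra A D := ((algebraMap B D).comp (algebraMap A B)).toAlgebra
  haveI : IsScalarTower A B D := IsScalarTower.of_algebraMap_eq fun _ => rfl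
  haveI : IsScalarTower A P D := IsScalarTower.of_algebraMap_eq fun a => by
    show algebraMap B D (algebraMap A B a) = algebraMap P D (algebraMap C0 P (algebraMap A C0 a))
    rw [← IsScalarTower.algebraMap_apply C0 P D, IsScalarTower.algebraMap_apply C0 B D,
      ← IsScalarTower.algebraMap_apply A C0 B]
  let T := Localization.AtPrime r
  haveI : IsLocalization.AtPrime T (r.comap (algebraMap P D)) :=
    IsLocalization.isLocalization_isLocalization_atPrime_isLocalization
      (Algebra.algebraMapSubmonoid P q.primeCompl) T r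
  haveI : Algebra.FinitePresentation A P := Algebra.FinitePresentation.trans A C0 P
  haveI : Algebra.FormallyEtale A B :=
    haveI : Algebra.FormallyEtale C0 B := Algebra.FormallyEtale.of_isLocalization q.primeCompl
    Algebra.FormallyEtale.comp A C0 B
  haveI : Algebra.FormallyEtale A T :=
    haveI : Algebra.FormallyEtale D T := Algebra.FormallyEtale.of_isLocalization r.primeCompl
    haveI : Algebra.FormallyEtale A D := Algebra.FormallyEtale.comp A B D
    Algebra.FormallyEtale.comp A D T
  haveI : Algebra.IsEtaleAt A (r.comap (algebraMap P D)) :=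
    Algebra.FormallyEtale.of_equiv
      ((IsLocalization.algEquiv (r.comap (algebraMap P D)).primeCompl T
        (Localization.AtPrime (r.comap (algebraMap P D)))).restrictScalars A)
  obtain ⟨f, hf, hfet⟩ := Algebra.exists_etale_of_isEtaleAt (R := A) (r.comap (algebraMap P D))
  set r0 := r.comap (algebraMap P D)
  let P1 := Localization.Away f
  have hdisj : Disjoint (Submonoid.powers f : Set P) r0 := by
    refine Set.disjoint_left.2 ?_
    rintro _ ⟨k, rfl⟩ hk
    exact hf ((inferInstance : r0.IsPrime).mem_of_pow_mem k hk)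
  let r1 := r0.map (algebraMap P P1)
  haveI : r1.IsPrime := IsLocalization.isPrime_of_isPrime_disjoint _ _ _ inferInstance hdisj
  have hr1 : r1.comap (algebraMap P P1) = r0 :=
    IsLocalization.under_map_of_isPrime_disjoint (Submonoid.powers f) P1 inferInstance hdisj
  haveI : IsLocalization.AtPrime (Localization.AtPrime r1) r0 := by
    have h := IsLocalization.isLocalization_isLocalization_atPrime_isLocalization
      (Submonoid.powers f) (Localization.AtPrime r1) r1
    convert h
    exact hr1.symm
  refine ⟨P1, inferInstance, inferInstance, r1, inferInstance, hfet, ?_, ⟨?_⟩⟩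
  · rw [IsScalarTower.algebraMap_eq A P P1, ← Ideal.comap_comap, hr1, Ideal.comap_comap,
      ← IsScalarTower.algebraMap_eq, IsScalarTower.algebraMap_eq A B D, ← Ideal.comap_comap, hr,
      IsScalarTower.algebraMap_eq A C0 B, ← Ideal.comap_comap,
      ← Ideal.under_def C0, IsLocalization.AtPrime.under_maximalIdeal B q, hq]
  · exact (eC.restrictScalars A).trans
      ((IsLocalization.algEquiv r0.primeCompl T (Localization.AtPrime r1)).restrictScalars A)

end EssEtTransLib
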